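import Mathlib
import Cfsg.Prelude.Def_LocalEven
import Cfsg.Agent.Lib.PSolvable.Core
import Cfsg.Agent.Lib.Layer.CharP
import Cfsg.Agent.Lib.Layer.Radical

/-!
Maximal `p`-local subgroups in a group of local characteristic `p`: either two of them form a
primitive pair or every one of them is strongly `p`-embedded.
-/

set_option autoImplicit false
set_option linter.style.haveILetI false

namespace CfsgLib.LocalPair

open Cfsg
open scoped Pointwise

variable {G : Type*} [Group G] [Finite G] {p : ℕ} [Fact p.Prime]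

/-- A `p`-local subgroup. -/
def Local (p : ℕ) (M : Subgroup G) : Prop :=
  ∃ T : Subgroup G, IsPGroup p T ∧ T ≠ ⊥ ∧ M = Subgroup.normalizer (T : Set G)

/-- The `p`-core of a subgroup, in the ambient group. -/
def core (p : ℕ) (M : Subgroup G) : Subgroup G := (pCore p ↥M).map M.subtype

omit [Fact p.Prime] in
theorem core_isPGroup (M : Subgroup G) : IsPGroup p (core p M) :=
  (Fitting.pCore_isPGroup p).map _

theorem le_normalizer_core (M : Subgroup G) : M ≤ Subgroup.normalizer (core p M : Set G) :=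
  PSolvable.le_normalizer_map_of_characteristic Subgroup.le_normalizer _

theorem le_core {M T : Subgroup G} (hTM : T ≤ M) (hM : M ≤ Subgroup.normalizer (T : Set G))
    (hT : IsPGroup p T) : T ≤ core p M := by
  haveI : (T.subgroupOf M).Normal := Subgroup.normal_subgroupOf_of_le_normalizer hM
  have := Subgroup.map_mono (f := M.subtype) (Fitting.le_pCore (G := M) (N := T.subgroupOf M)
    inferInstance (hT.comap_of_injective M.subtype M.subtype_injective))
  rwa [Subgroup.map_subgroupOf_eq_of_le hTM] at this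

theorem core_ne_bot {M : Subgroup G} (hM : Local p M) : core p M ≠ ⊥ := by
  obtain ⟨T, hT, hT1, rfl⟩ := hM
  exact fun h => hT1 (le_bot_iff.mp (h ▸ le_core Subgroup.le_normalizer le_rfl hT))

theorem exists_maximal_ge {M : Subgroup G} (hM : Local p M) :
    ∃ K, Maximal (Local p) K ∧ M ≤ K := by
  obtain ⟨K, hMK, hK⟩ := Finite.exists_le_maximal hM
  exact ⟨K, hK, hMK⟩

theorem normalizer_core_eq {M : Subgroup G} (hM : Maximal (Local p) M) :
    Subgroup.normalizer (core p M : Set G) = M :=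
  le_antisymm (hM.2 ⟨core p M, core_isPGroup M, core_ne_bot hM.1, rfl⟩ (le_normalizer_core M))
    (le_normalizer_core M)

variable (hloc : IsOfLocalCharacteristic p G)
include hloc

theorem centralizer_core_le {M : Subgroup G} (hM : Local p M) :
    Subgroup.centralizer (pCore p ↥M : Set M) ≤ pCore p ↥M := by
  obtain ⟨T, hT, hT1, rfl⟩ := hM
  exact hloc.2 T hT hT1

theorem primitive {M A : Subgroup G} (hM : Maximal (Local p) M) (hA : A ≠ ⊥) (hAM : A ≤ M)
    (hn : M ≤ Subgroup.normalizer (A : Set G)) : Subgroup.normalizer (A : Set G) = M := by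
  refine le_antisymm ?_ hn
  haveI : (A.subgroupOf M).Normal := Subgroup.normal_subgroupOf_of_le_normalizer hn
  haveI := Fitting.pCore_normal (G := M) p
  set D := A ⊓ core p M with hD
  have hD1 : D ≠ ⊥ := by
    intro h0
    apply hA
    have h1 : A.subgroupOf M ⊓ pCore p ↥M = ⊥ := by
      rw [← Subgroup.map_eq_bot_iff_of_injective _ M.subtype_injective,
        Subgroup.map_inf _ _ _ M.subtype_injective, Subgroup.map_subgroupOf_eq_of_le hAM]
      exact h0
    have h2 : A.subgroupOf M ≤ pCore p ↥M :=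
      (Subgroup.commutator_eq_bot_iff_le_centralizer.mp
        (le_bot_iff.mp (h1 ▸ Subgroup.commutator_le_inf _ _))).trans (centralizer_core_le hloc hM.1)
    rw [inf_eq_left.mpr h2, Subgroup.subgroupOf_eq_bot, disjoint_iff, inf_eq_left.mpr hAM] at h1
    exact h1
  have hDA : D ≤ core p A :=
    le_core inf_le_left (Coprime.le_normalizer_inf_of_le Subgroup.le_normalizer
      (hAM.trans (le_normalizer_core M))) ((core_isPGroup M).to_le inf_le_right)
  have hR : core p A ≠ ⊥ := fun h => hD1 (le_bot_iff.mp (h ▸ hDA))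
  have hNR : Subgroup.normalizer (A : Set G) ≤ Subgroup.normalizer (core p A : Set G) :=
    PSolvable.le_normalizer_map_of_characteristic le_rfl _
  exact hNR.trans (hM.2 ⟨core p A, core_isPGroup A, hR, rfl⟩ (hn.trans hNR))

/-- Two maximal `p`-locals each containing both cores. -/
def IsPair (M₁ M₂ : Subgroup G) : Prop :=
  M₁ ≠ M₂ ∧ (∀ A : Subgroup G, A ≠ ⊥ → A ≤ M₁ ⊓ M₂ →
      (M₁ ≤ Subgroup.normalizer (A : Set G) → M₂ ⊓ Subgroup.normalizer (A : Set G) = M₁ ⊓ M₂) ∧
      (M₂ ≤ Subgroup.normalizer (A : Set G) → M₁ ⊓ Subgroup.normalizer (A : Set G) = M₁ ⊓ M₂)) ∧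
    Subgroup.centralizer (pCore p ↥M₁ : Set ↥M₁) ≤ pCore p ↥M₁ ∧
    Subgroup.centralizer (pCore p ↥M₂ : Set ↥M₂) ≤ pCore p ↥M₂ ∧
    core p M₁ ⊔ core p M₂ ≤ M₁ ⊓ M₂

theorem isPair_of {M₁ M₂ T : Subgroup G} (h1 : Maximal (Local p) M₁) (h2 : Maximal (Local p) M₂)
    (hne : M₁ ≠ M₂) (hT : T ≤ M₁ ⊓ M₂) (hc1 : core p M₁ ≤ T) (hc2 : core p M₂ ≤ T) :
    IsPair (p := p) M₁ M₂ :=
  ⟨hne, fun A hA hAle => ⟨fun hn => by
      rw [primitive hloc h1 hA (hAle.trans inf_le_left) hn, inf_comm],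
    fun hn => by rw [primitive hloc h2 hA (hAle.trans inf_le_right) hn]⟩,
    centralizer_core_le hloc h1.1, centralizer_core_le hloc h2.1,
    (sup_le hc1 hc2).trans hT⟩

omit hloc

/-- `T` is a maximal `p`-subgroup of `M`. -/
def MaxIn (p : ℕ) (M T : Subgroup G) : Prop :=
  Maximal (fun S : Subgroup G => IsPGroup p S ∧ S ≤ M) T

omit [Fact p.Prime] in
theorem maxIn_core_le {M T : Subgroup G} (hT : MaxIn p M T) (hn : M ≤ Subgroup.normalizer (core p M : Set G)) :
    core p M ≤ T := by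
  refine le_trans le_sup_right (hT.2 (y := T ⊔ core p M) ⟨?_, ?_⟩ le_sup_left)
  · exact IsPGroup.to_sup_of_normal_right' hT.1.1 (core_isPGroup M) (hT.1.2.trans hn)
  · exact sup_le hT.1.2 (Subgroup.map_subtype_le _)

/-- A non-maximal `p`-subgroup of `M` is normalized by a `p`-element of `M` outside it. -/
theorem exists_normalizing {M T : Subgroup G} (hp : IsPGroup p T) (hTM : T ≤ M)
    (hT : ¬ MaxIn p M T) :
    ∃ x ∈ M, x ∈ Subgroup.normalizer (T : Set G) ∧ x ∉ T ∧
      IsPGroup p ↥(T ⊔ Subgroup.zpowers x) := by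
  obtain ⟨S, ⟨hS, hSM⟩, hTS⟩ : ∃ S : Subgroup G, (IsPGroup p S ∧ S ≤ M) ∧ T < S := by
    by_contra h
    push Not at h
    exact hT ⟨⟨hp, hTM⟩, fun S hS hle => (eq_or_lt_of_le hle).elim (fun e => e.ge)
      fun hlt => absurd hlt (h S hS)⟩
  haveI := hS.isNilpotent
  have hne : T.subgroupOf S < ⊤ :=
    lt_top_iff_ne_top.mpr fun h => hTS.not_ge (Subgroup.subgroupOf_eq_top.mp h)
  obtain ⟨x, hx, hxT⟩ := SetLike.exists_of_lt (normalizerCondition_of_isNilpotent _ hne)
  refine ⟨x, hSM x.2, ?_, fun h => hxT (Subgroup.mem_subgroupOf.mpr h),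
    hS.to_le (sup_le hTS.le (Subgroup.zpowers_le.mpr x.2))⟩
  refine Subgroup.mem_normalizer_iff.mpr fun t => ⟨fun ht => ?_, fun ht => ?_⟩
  · exact Subgroup.mem_subgroupOf.mp ((Subgroup.mem_normalizer_iff.mp hx ⟨t, hTS.le ht⟩).mp
      (Subgroup.mem_subgroupOf.mpr ht))
  · have htS : t ∈ S := by
      have := mul_mem (mul_mem (inv_mem x.2) (hTS.le ht)) x.2
      simpa [mul_assoc] using this
    exact Subgroup.mem_subgroupOf.mp ((Subgroup.mem_normalizer_iff.mp hx ⟨t, htS⟩).mpr
      (Subgroup.mem_subgroupOf.mpr ht))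

omit [Fact p.Prime] in
theorem local_conj {M : Subgroup G} (hM : Local p M) (x : G) :
    Local p (MulAut.conj x • M) := by
  obtain ⟨T, hT, hT1, rfl⟩ := hM
  refine ⟨MulAut.conj x • T, hT.map _, ?_, ?_⟩
  · exact fun h => hT1 ((Subgroup.map_eq_bot_iff_of_injective _ (MulAut.conj x).injective).mp h)
  · exact Subgroup.map_equiv_normalizer_eq T (MulAut.conj x)

theorem maximal_conj {M : Subgroup G} (hM : Maximal (Local p) M) (x : G) :
    Maximal (Local p) (MulAut.conj x • M) := by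
  refine ⟨local_conj hM.1 x, fun L hL hle => ?_⟩
  have := hM.2 (local_conj hL x⁻¹) (by
    rw [map_inv]
    exact Subgroup.pointwise_smul_subset_iff.mp hle)
  rw [map_inv] at this
  exact Subgroup.subset_pointwise_smul_iff.mpr this

theorem mem_of_conj_eq {M : Subgroup G} (hM : Maximal (Local p) M) {x : G}
    (h : MulAut.conj x • M = M) : x ∈ M := by
  rw [← normalizer_core_eq hM]
  have hx : x ∈ Subgroup.normalizer (M : Set G) := Coprime.mem_normalizer_iff_conj_smul.mpr h
  exact PSolvable.le_normalizer_map_of_characteristic (le_refl (Subgroup.normalizer (M : Set G))) _ hx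

omit [Finite G] [Fact p.Prime] in
theorem core_map (M : Subgroup G) (e : G ≃* G) :
    core p (M.map e.toMonoidHom) = (core p M).map e.toMonoidHom := by
  rw [core, core, ← CharCore.map_pCore (p := p) (M.equivMapOfInjective e.toMonoidHom e.injective),
    Subgroup.map_map, Subgroup.map_map]
  rfl

theorem exists_pair_or_embedded (hloc : IsOfLocalCharacteristic p G) (hOp : pCore p G = ⊥) :
    (∃ M₁ M₂ : Subgroup G, IsPair (p := p) M₁ M₂) ∨
      ∀ M : Subgroup G, Maximal (Local p) M → M ≠ ⊤ ∧ p ∣ Nat.card M ∧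
        ∀ g : G, g ∉ M → ¬ p ∣ Nat.card ↥(M ⊓ M.map (MulAut.conj g).toMonoidHom) := by
  by_contra hcon
  push Not at hcon
  obtain ⟨hno, M₀, hM₀, hbad⟩ := hcon
  have hnoP : ∀ {M L T : Subgroup G}, Maximal (Local p) M → Maximal (Local p) L → M ≠ L →
      T ≤ M ⊓ L → core p M ≤ T → core p L ≤ T → False :=
    fun hM hL hne hT h1 h2 => hno _ _ (isPair_of hloc hM hL hne hT h1 h2)
  -- every maximal `p`-subgroup of a maximal local is one of `G`
  have hfull : ∀ {M T : Subgroup G}, Maximal (Local p) M → MaxIn p M T → MaxIn p ⊤ T := by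
    intro M T hM hT
    by_contra h
    obtain ⟨x, -, hxN, hxT, hxp⟩ := exists_normalizing hT.1.1 le_top h
    have hxM : x ∉ M := fun hx => hxT (hT.2 ⟨hxp, sup_le hT.1.2 (Subgroup.zpowers_le.mpr hx)⟩
      le_sup_left (Subgroup.mem_sup_right (Subgroup.mem_zpowers x)))
    have hTx : MulAut.conj x • T = T := Coprime.conj_smul_eq_self_of_mem_normalizer hxN
    have hML : M ≠ MulAut.conj x • M := fun h => hxM (mem_of_conj_eq hM h.symm)
    refine hnoP hM (maximal_conj hM x) hML
      (le_inf hT.1.2 (hTx ▸ Subgroup.map_mono hT.1.2)) (maxIn_core_le hT (le_normalizer_core M)) ?_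
    refine le_trans ?_ (hTx ▸ Subgroup.map_mono (f := (MulAut.conj x).toMonoidHom)
      (maxIn_core_le hT (le_normalizer_core M)) : MulAut.conj x • core p M ≤ T)
    -- the core of the conjugate is the conjugate of the core
    exact (core_map M (MulAut.conj x)).le
  -- nontrivial `p`-subgroups common to two maximal locals
  let Common : Subgroup G → Prop := fun T => IsPGroup p T ∧ T ≠ ⊥ ∧ ∃ M L : Subgroup G,
    Maximal (Local p) M ∧ Maximal (Local p) L ∧ M ≠ L ∧ T ≤ M ⊓ L
  have hnone : ∀ T, ¬ Common T := by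
    intro T₀ hT₀
    obtain ⟨T, -, ⟨hT, hT1, M, L, hM, hL, hne, hle⟩, hmax⟩ := Finite.exists_le_maximal hT₀
    by_cases hTM : MaxIn p M T
    · have hTG := hfull hM hTM
      have hTL : MaxIn p L T := ⟨⟨hT, hle.trans inf_le_right⟩,
        fun S hS hTS => hTG.2 ⟨hS.1, le_top⟩ hTS⟩
      exact hnoP hM hL hne hle (maxIn_core_le hTM (le_normalizer_core M))
        (maxIn_core_le hTL (le_normalizer_core L))
    by_cases hTL : MaxIn p L T
    · have hTG := hfull hL hTL
      exact hTM ⟨⟨hT, hle.trans inf_le_left⟩, fun S hS hTS => hTG.2 ⟨hS.1, le_top⟩ hTS⟩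
    obtain ⟨K, hK, hNK⟩ := exists_maximal_ge (p := p) ⟨T, hT, hT1, rfl⟩
    have key : ∀ {X : Subgroup G}, Maximal (Local p) X → T ≤ X → ¬ MaxIn p X T → K = X := by
      intro X hX hTX hnX
      by_contra hKX
      obtain ⟨x, hxX, hxN, hxT, hxp⟩ := exists_normalizing hT hTX hnX
      exact hxT (hmax ⟨hxp, fun h => hT1 (le_bot_iff.mp (h ▸ le_sup_left)), K, X, hK, hX, hKX,
        le_inf (sup_le (Subgroup.le_normalizer.trans hNK) (Subgroup.zpowers_le.mpr (hNK hxN)))
          (sup_le hTX (Subgroup.zpowers_le.mpr hxX))⟩ le_sup_left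
        (Subgroup.mem_sup_right (Subgroup.mem_zpowers x)))
    exact hne ((key hM (hle.trans inf_le_left) hTM).symm.trans
      (key hL (hle.trans inf_le_right) hTL))
  have htop : M₀ ≠ ⊤ := by
    intro h
    obtain ⟨T, hT, hT1, hMT⟩ := hM₀.1
    exact hT1 (le_bot_iff.mp (hOp ▸ Fitting.le_pCore
      (Subgroup.normalizer_eq_top_iff.mp (hMT ▸ h)) hT))
  have hdvd : p ∣ Nat.card M₀ := by
    obtain ⟨n, hn⟩ := IsPGroup.iff_card.mp (core_isPGroup (p := p) M₀)
    have hn0 : n ≠ 0 := by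
      rintro rfl
      exact core_ne_bot hM₀.1 (Subgroup.eq_bot_of_card_eq _ (by rw [hn, pow_zero]))
    exact (dvd_pow_self p hn0).trans (hn ▸ Subgroup.card_dvd_of_le (Subgroup.map_subtype_le _))
  obtain ⟨g, hg, hgd⟩ := hbad htop hdvd
  haveI : Fintype ↥(M₀ ⊓ M₀.map (MulAut.conj g).toMonoidHom) := Fintype.ofFinite _
  obtain ⟨x, hx⟩ := exists_prime_orderOf_dvd_card' p hgd
  refine hnone ((Subgroup.zpowers (x : G))) ⟨?_, ?_, M₀, MulAut.conj g • M₀, hM₀,
    maximal_conj hM₀ g, fun h => hg (mem_of_conj_eq hM₀ h.symm), Subgroup.zpowers_le.mpr x.2⟩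
  · exact IsPGroup.of_card (n := 1) (by rw [Nat.card_zpowers, Subgroup.orderOf_coe, hx, pow_one])
  · intro h
    rw [Subgroup.zpowers_eq_bot, ← orderOf_eq_one_iff, Subgroup.orderOf_coe, hx] at h
    exact (Fact.out : p.Prime).ne_one h

end CfsgLib.LocalPair
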